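import Groth.Agent.Lib.DeRhamFam.Basic
import Groth.Prelude.Def_DeRham

/-!
# Lifting forms along coordinate hyperplanes
-/

set_option autoImplicit false
set_option linter.all false
set_option maxHeartbeats 800000
set_option backward.isDefEq.respectTransparency false

universe u

open exteriorPower

namespace GrothLib.HypCech2

variable {k A : Type u} [CommRing k] [CommRing A] [Algebra k A] {d n : ℕ} (t : Fin d → A) (e : Fin n ↪ Fin d)

/-- The ideal of the stratum indexed by `I`. -/
abbrev idl (I : Finset (Fin n)) : Ideal A := ⨆ i ∈ I, Ideal.span {t (e i)}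

theorem mem_idl {I : Finset (Fin n)} {i : Fin n} (hi : i ∈ I) : t (e i) ∈ idl t e I :=
  Submodule.mem_iSup_of_mem i (Submodule.mem_iSup_of_mem hi (Ideal.mem_span_singleton_self _))

theorem D_eq_zero {I : Finset (Fin n)} {i : Fin n} (hi : i ∈ I) :
    KaehlerDifferential.D k (A ⧸ idl t e I) (Ideal.Quotient.mk _ (t (e i))) = 0 := by
  rw [Ideal.Quotient.eq_zero_iff_mem.2 (mem_idl t e hi), map_zero]

variable (b : Module.Basis (Fin d) A (Ω[A⁄k])) (hb : ∀ i, b i = KaehlerDifferential.D k A (t i))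

include hb in
theorem span_compl (J : Finset (Fin n)) :
    Submodule.span (A ⧸ idl t e J) (Set.range fun i : {i : Fin d // i ∉ J.map e} =>
      KaehlerDifferential.D k (A ⧸ idl t e J) (Ideal.Quotient.mk _ (t i.1))) = ⊤ := by
  refine eq_top_iff.2 ((DRFam.span_D k (A ⧸ idl t e J)).ge.trans (Submodule.span_le.2 ?_))
  rintro _ ⟨z, rfl⟩
  obtain ⟨a, rfl⟩ := Ideal.Quotient.mk_surjective z
  have h1 := congrArg (KaehlerDifferential.map k k A (A ⧸ idl t e J)) (b.sum_repr (KaehlerDifferential.D k A a))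
  rw [map_sum, KaehlerDifferential.map_D] at h1
  rw [SetLike.mem_coe, ← Ideal.Quotient.algebraMap_eq, ← h1]
  refine sum_mem fun i _ => ?_
  rw [LinearMap.map_smul_of_tower, hb, KaehlerDifferential.map_D, ← algebraMap_smul (A ⧸ idl t e J)]
  refine Submodule.smul_mem _ _ ?_
  by_cases hi : i ∈ J.map e
  · obtain ⟨j, hj, rfl⟩ := Finset.mem_map.1 hi
    rw [Ideal.Quotient.algebraMap_eq, D_eq_zero t e hj]
    exact zero_mem _
  · exact Submodule.subset_span ⟨⟨i, hi⟩, rfl⟩

variable (ψ : ∀ (I J : Finset (Fin n)) (p : ℕ), ↥(⋀[(A ⧸ idl t e I)]^p (Ω[(A ⧸ idl t e I)⁄k])) →+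
      ↥(⋀[(A ⧸ idl t e J)]^p (Ω[(A ⧸ idl t e J)⁄k])))
  (hψ : ∀ (I J : Finset (Fin n)) (h : I ⊆ J),
      DeRham.IsCxMap (KaehlerDifferential.D k (A ⧸ idl t e I)) (KaehlerDifferential.D k (A ⧸ idl t e J))
        (Ideal.Quotient.factor (biSup_mono h)) (ψ I J))

include hb hψ in
theorem exists_lift {s m : ℕ} (hs : s + 1 + m = d) (J : Finset (Fin n)) (hJ : J.card = s + 1) (I : Finset (Fin n))
    (hIJ : I ⊆ J) (x : ↥(⋀[(A ⧸ idl t e J)]^m (Ω[(A ⧸ idl t e J)⁄k]))) :
    ∃ y : ↥(⋀[(A ⧸ idl t e I)]^m (Ω[(A ⧸ idl t e I)⁄k])),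
      ψ I J m y = x ∧ ∀ l ∉ J, ψ I (insert l I) m y = 0 := by
  classical
  let δ : {i : Fin d // i ∉ J.map e} → Ω[(A ⧸ idl t e J)⁄k] := fun i =>
    KaehlerDifferential.D k (A ⧸ idl t e J) (Ideal.Quotient.mk _ (t i.1))
  have hx : x ∈ Submodule.span (A ⧸ idl t e J)
      (ιMulti (A ⧸ idl t e J) m '' {a | Set.range a ⊆ Set.range δ}) := by
    rw [ιMulti_span_of_span (A ⧸ idl t e J) m _ (span_compl t e b hb J)]; exact Submodule.mem_top
  suffices h : ∀ c : A ⧸ idl t e J, ∃ y : ↥(⋀[(A ⧸ idl t e I)]^m (Ω[(A ⧸ idl t e I)⁄k])),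
      ψ I J m y = c • x ∧ ∀ l ∉ J, ψ I (insert l I) m y = 0 by simpa using h 1
  induction hx using Submodule.span_induction with
  | mem z hz =>
    obtain ⟨v, hv, rfl⟩ := hz
    choose f hf using fun i => hv ⟨i, rfl⟩
    obtain rfl : v = fun i => δ (f i) := funext fun i => (hf i).symm
    intro c
    by_cases hinj : Function.Injective f
    · obtain ⟨c, rfl⟩ := Ideal.Quotient.mk_surjective c
      refine ⟨DeRham.gen (KaehlerDifferential.D k (A ⧸ idl t e I)) m (Ideal.Quotient.mk _ c)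
        (fun i => Ideal.Quotient.mk _ (t (f i).1)), ?_, fun l hl => ?_⟩
      · rw [hψ I J hIJ]
        simp only [DeRham.gen, Ideal.Quotient.factor_mk]
        rfl
      · rw [hψ I _ (Finset.subset_insert l I)]
        have hsurj : Function.Surjective f := by
          refine ((Fintype.bijective_iff_injective_and_card f).2 ⟨hinj, ?_⟩).2
          rw [Fintype.card_fin, Fintype.card_subtype_compl, Fintype.card_coe, Finset.card_map, Fintype.card_fin, hJ]
          omega
        obtain ⟨i, hi⟩ := hsurj ⟨e l, fun h => hl ((Finset.mem_map' e).1 h)⟩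
        simp only [DeRham.gen, Ideal.Quotient.factor_mk]
        rw [(ιMulti (A ⧸ idl t e (insert l I)) m).map_coord_zero i, smul_zero]
        rw [show (f i).1 = e l from congrArg Subtype.val hi]
        exact D_eq_zero t e (Finset.mem_insert_self l I)
    · refine ⟨0, ?_, fun l _ => map_zero _⟩
      rw [Function.Injective] at hinj
      push Not at hinj
      obtain ⟨i, j, hij, hne⟩ := hinj
      rw [map_zero, (ιMulti (A ⧸ idl t e J) m).map_eq_zero_of_eq _ (by rw [hij] : δ (f i) = δ (f j)) hne, smul_zero]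
  | zero => intro c; exact ⟨0, by rw [map_zero, smul_zero], fun l _ => map_zero _⟩
  | add x y _ _ hx hy =>
    intro c
    obtain ⟨p, hp, hp'⟩ := hx c
    obtain ⟨q, hq, hq'⟩ := hy c
    exact ⟨p + q, by rw [map_add, hp, hq, smul_add], fun l hl => by rw [map_add, hp' l hl, hq' l hl, add_zero]⟩
  | smul a x _ hx => intro c; rw [smul_smul]; exact hx _

include hb hψ in
theorem exists_cech_lift {s m : ℕ} (hs : s + 1 + m = d)
    (g : ∀ J : Finset (Fin n), ↥(⋀[(A ⧸ idl t e J)]^m (Ω[(A ⧸ idl t e J)⁄k]))) :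
    ∃ ω : ∀ I : Finset (Fin n), ↥(⋀[(A ⧸ idl t e I)]^m (Ω[(A ⧸ idl t e I)⁄k])),
      ∀ J : Finset (Fin n), J.card = s + 1 →
        (∑ j ∈ J.attach,
          ((-1 : ℤ) ^ (J.filter (fun i => i < j.1)).card) •
            ψ (J.erase j.1) J m (ω (J.erase j.1))) = g J := by
  classical
  choose L hL hL' using fun (I : Finset (Fin n)) (j : Fin n) (h : (insert j I).card = s + 1) =>
    exists_lift t e b hb ψ hψ hs (insert j I) h I (Finset.subset_insert j I) (g (insert j I))
  let ω : ∀ I : Finset (Fin n), ↥(⋀[(A ⧸ idl t e I)]^m (Ω[(A ⧸ idl t e I)⁄k])) := fun I =>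
    ∑ j ∈ Finset.univ.filter (fun j => j ∉ I ∧ ∀ i ∈ I, j < i),
      if h : (insert j I).card = s + 1 then L I j h else 0
  refine ⟨ω, fun J hJ => ?_⟩
  have hne : J.Nonempty := Finset.card_pos.1 (by omega)
  have hval : ∀ (I : Finset (Fin n)) (j : Fin n), j ∉ I → insert j I = J →
      ψ I J m (ω I) = if (∀ i ∈ I, j < i) then g J else 0 := by
    intro I j hj hI
    subst hI
    simp only [ω, map_sum]
    rw [← Finset.sum_filter_add_sum_filter_not _ (fun l => l = j)]
    rw [Finset.sum_eq_zero (s := (Finset.univ.filter fun l => l ∉ I ∧ ∀ i ∈ I, l < i).filter fun l => ¬ l = j)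
      (fun l hl => ?_), add_zero]
    · by_cases hmin : ∀ i ∈ I, j < i
      · rw [if_pos hmin, Finset.sum_eq_single j, dif_pos hJ, hL]
        · intro l hl hlj; exact absurd (Finset.mem_filter.1 hl).2 hlj
        · intro h; exact absurd (by simp [hj]; exact hmin) h
      · rw [if_neg hmin]
        refine Finset.sum_eq_zero fun l hl => ?_
        rw [Finset.mem_filter, Finset.mem_filter] at hl
        exact absurd (hl.2 ▸ hl.1.2.2) hmin
    · rw [Finset.mem_filter, Finset.mem_filter] at hl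
      split_ifs with h
      · refine hL' I l h j fun hjm => ?_
        rcases Finset.mem_insert.1 hjm with h1 | h1
        · exact hl.2 h1.symm
        · exact hj h1
      · exact map_zero _
  rw [Finset.sum_eq_single (⟨J.min' hne, J.min'_mem hne⟩ : {x // x ∈ J})]
  · rw [hval _ (J.min' hne) (Finset.notMem_erase _ _) (Finset.insert_erase (J.min'_mem hne)), if_pos]
    · rw [Finset.filter_eq_empty_iff.2 fun i hi => not_lt.2 (J.min'_le i hi), Finset.card_empty, pow_zero, one_smul]
    · intro i hi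
      exact lt_of_le_of_ne (J.min'_le i (Finset.mem_of_mem_erase hi)) (Finset.ne_of_mem_erase hi).symm
  · intro j _ hj
    rw [hval _ j.1 (Finset.notMem_erase _ _) (Finset.insert_erase j.2), if_neg, smul_zero]
    intro h
    have hm : J.min' hne ∈ J.erase j.1 := Finset.mem_erase.2 ⟨fun h' => hj (Subtype.ext h'.symm), J.min'_mem hne⟩
    exact absurd (J.min'_le j.1 j.2) (not_le.2 (h _ hm))
  · intro h; exact absurd (Finset.mem_attach _ _) h

end GrothLib.HypCech2
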